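import Groth.Prelude.Def_ChGrp
import Groth.Prelude.Def_AlgSt5
import Groth.Agent.Lib.AlgSpace.Local
import Groth.Agent.Lib.GrpSch.Basic
import Groth.Agent.Lib.DescAlg.Descends
import Groth.Agent.Lib.QuotSt.Sheaf
import Groth.Agent.Lib.FFDesc.Datum

/-!
# Torsors on points, and covers trivialising them
-/

set_option autoImplicit false
set_option backward.isDefEq.respectTransparency false
set_option backward.isDefEq.respectTransparency.types false

universe u

open CategoryTheory CategoryTheory.Limits MonoidalCategory CartesianMonoidalCategory MonObj GrpObj AlgebraicGeometry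

namespace Groth.Agent.Lib.QuotStk86

open Groth.Agent.Lib.AlgSpace (fppfCover)

variable {S : Scheme.{u}} {G X Y : Over S} [GrpObj G]

/-- `g • x` on points. -/
noncomputable abbrev smp (a : AlgGrp.Action G X) {T : Over S} (g : T ⟶ G) (x : T ⟶ X) : T ⟶ X :=
  lift g x ≫ a.act

theorem smp_one (a : AlgGrp.Action G X) {T : Over S} (x : T ⟶ X) : smp a 1 x = x :=
  a.lift_one_act x

theorem smp_smp (a : AlgGrp.Action G X) {T : Over S} (g g' : T ⟶ G) (x : T ⟶ X) :
    smp a g (smp a g' x) = smp a (g * g') x :=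
  (a.lift_mul_act g g' x).symm

theorem comp_smp (a : AlgGrp.Action G X) {T T' : Over S} (k : T' ⟶ T) (g : T ⟶ G) (x : T ⟶ X) :
    k ≫ smp a g x = smp a (k ≫ g) (k ≫ x) := by
  rw [smp, smp, comp_lift_assoc]

theorem inv_smp (a : AlgGrp.Action G X) {T : Over S} (g : T ⟶ G) {x y : T ⟶ X} (h : smp a g x = y) :
    smp a g⁻¹ y = x := by
  rw [← h, smp_smp, inv_mul_cancel, smp_one]

theorem smp_comp (a : AlgGrp.Action G X) (b : AlgGrp.Action G Y) {f : X ⟶ Y}
    (hf : a.act ≫ f = (G ◁ f) ≫ b.act) {T : Over S} (g : T ⟶ G) (x : T ⟶ X) :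
    smp a g x ≫ f = smp b g (x ≫ f) := by
  rw [smp, smp, Category.assoc, hf, lift_whiskerLeft_assoc]

section Torsor

variable {P B : Over S} {a : AlgGrp.Action G P} {π : P ⟶ B}

theorem smp_π (sq : IsPullback a.act (snd G P) π π) {T : Over S} (g : T ⟶ G) (x : T ⟶ P) :
    smp a g x ≫ π = x ≫ π := by
  rw [smp, Category.assoc, sq.w, lift_snd_assoc]

theorem exists_smp (sq : IsPullback a.act (snd G P) π π) {T : Over S} {x y : T ⟶ P}
    (h : x ≫ π = y ≫ π) : ∃ g : T ⟶ G, smp a g x = y := by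
  refine ⟨sq.lift y x h.symm ≫ fst G P, ?_⟩
  have e : lift (sq.lift y x h.symm ≫ fst G P) x = sq.lift y x h.symm :=
    CartesianMonoidalCategory.hom_ext _ _ (lift_fst _ _) (by rw [lift_snd, sq.lift_snd])
  rw [smp, e, sq.lift_fst]

theorem smp_cancel (sq : IsPullback a.act (snd G P) π π) {T : Over S} {x : T ⟶ P} {g g' : T ⟶ G}
    (h : smp a g x = smp a g' x) : g = g' := by
  have := sq.hom_ext (k := lift g x) (l := lift g' x) h ((lift_snd _ _).trans (lift_snd _ _).symm)
  simpa using congrArg (· ≫ fst G P) this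

end Torsor

section Cover

variable {M : Scheme.{u}} {P : Over M}

/-- A locally trivial scheme has a section over one fppf cover. -/
theorem exists_cover_section (h : NonAbH1.IsLocallyTrivialFor Scheme.fppfPrecoverage P) :
    ∃ (W : Scheme.{u}) (q : W ⟶ M) (s : W ⟶ P.left), fppfCover q ∧ s ≫ P.hom = q := by
  obtain ⟨R, hR, hs⟩ := h
  obtain ⟨E, rfl⟩ := R.exists_eq_preZeroHypercover
  obtain ⟨hsurj, hP⟩ := Scheme.ofArrows_mem_precoverage_iff (P := @Flat ⊓ @LocallyOfFinitePresentation) |>.1 hR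
  choose i y hy using hsurj
  choose s hs' using fun x => hs _ (Presieve.ofArrows.mk (f := E.f) (i x))
  refine ⟨_, Sigma.desc fun x : M => E.f (i x), Sigma.desc s,
    ⟨⟨⟨fun x => ?_⟩, ?_⟩, ?_⟩, Sigma.hom_ext _ _ fun x => by simp [hs']⟩
  · refine ⟨Sigma.ι (fun x : M => E.X (i x)) x (y x), ?_⟩
    rw [← Scheme.Hom.comp_apply, Sigma.ι_desc]
    exact hy x
  · exact IsZariskiLocalAtSource.sigmaDesc (P := @Flat) fun x => (hP _).1
  · exact IsZariskiLocalAtSource.sigmaDesc (P := @LocallyOfFinitePresentation) fun x => (hP _).2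

/-- An fppf cover with a section makes a scheme locally trivial. -/
theorem isLocallyTrivialFor_of_cover {W : Scheme.{u}} (q : W ⟶ M) (hq : fppfCover q) (s : W ⟶ P.left)
    (hs : s ≫ P.hom = q) : NonAbH1.IsLocallyTrivialFor Scheme.fppfPrecoverage P := by
  have := hq.1.1; have := hq.1.2; have := hq.2
  refine ⟨_, q.singleton_mem_fppfPrecoverage, ?_⟩
  rintro S' f ⟨⟩
  exact ⟨s, hs⟩

end Cover

/-- The structure map of a torsor under a flat group locally of finite presentation is an fppf cover. -/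
theorem fppfCover_torsor {P B : Over S} {a : AlgGrp.Action G P} {π : P ⟶ B}
    [Flat G.hom] [LocallyOfFinitePresentation G.hom] (sq : IsPullback a.act (snd G P) π π)
    (h : NonAbH1.IsLocallyTrivialFor Scheme.fppfPrecoverage (Over.mk π.left : Over B.left)) :
    fppfCover π.left := by
  let A : AlgSt.QuotObj Scheme.fppfPrecoverage G (AlgSt.trivAction G) :=
    ⟨B, P, a, π, sq, h, toUnit P, toUnit_unique _ _⟩
  have hG : Surjective G.hom := ⟨fun t => ⟨η[G].left t, by
    rw [← Scheme.Hom.comp_apply, Over.w η[G]]; rfl⟩⟩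
  have hK := Scheme.fppfPrecoverage_le_fpqcPrecoverage.{u}
  exact ⟨⟨Lib.QuotSt.property_π (P := @Surjective) hK A hG,
    Lib.QuotSt.property_π (P := @Flat) hK A ‹_›⟩,
    Lib.QuotSt.property_π (P := @LocallyOfFinitePresentation) hK A ‹_›⟩

end Groth.Agent.Lib.QuotStk86
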