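import Groth.Agent.Lib.QuotStk86.FullyFaithful
import Groth.Agent.Lib.FFDesc.Effective
import Groth.Agent.Lib.AlgSpMor.RepDescent

/-!
# The comparison functor is essentially surjective: contracted products by descent
-/

set_option autoImplicit false
set_option backward.isDefEq.respectTransparency false
set_option backward.isDefEq.respectTransparency.types false

universe u

open CategoryTheory CategoryTheory.Limits MonoidalCategory CartesianMonoidalCategory MonObj GrpObj AlgebraicGeometry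

noncomputable section

namespace Groth.Agent.Lib.QuotStk86

open Groth.Agent.Lib.AlgSpace (fppfCover)
open AlgSt (QuotObj QuotSt)
open FFDesc (IsDescended)

variable {S : Scheme.{u}} {G H Z Y : Over S} [GrpObj G] [GrpObj H] (i : H ⟶ G) [IsMonHom i]
  {aZ : AlgGrp.Action H Z} (ξ : QuotObj Scheme.fppfPrecoverage H aZ)

/-- The difference of two points of a torsor. -/
def diffQ {T : Over S} (x y : T ⟶ ξ.P) (e : x ≫ ξ.π = y ≫ ξ.π) : T ⟶ H :=
  (exists_smp ξ.cart e).choose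

theorem diffQ_spec {T : Over S} (x y : T ⟶ ξ.P) (e : x ≫ ξ.π = y ≫ ξ.π) :
    smp ξ.act (diffQ ξ x y e) x = y :=
  (exists_smp ξ.cart e).choose_spec

theorem diffQ_eq {T : Over S} {x y : T ⟶ ξ.P} (e : x ≫ ξ.π = y ≫ ξ.π) {h : T ⟶ H}
    (he : smp ξ.act h x = y) : diffQ ξ x y e = h :=
  smp_cancel ξ.cart ((diffQ_spec ξ x y e).trans he.symm)

/-- The transport of `(g, p)` to a point `p'` of the same fibre. -/
def tr {T : Over S} (v : T ⟶ G ⊗ ξ.P) (x : T ⟶ ξ.P) (e : (v ≫ snd G ξ.P) ≫ ξ.π = x ≫ ξ.π) :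
    T ⟶ G ⊗ ξ.P :=
  lift ((v ≫ fst G ξ.P) * (diffQ ξ (v ≫ snd G ξ.P) x e ≫ i)⁻¹) x

theorem tr_snd {T : Over S} (v : T ⟶ G ⊗ ξ.P) (x : T ⟶ ξ.P) (e : (v ≫ snd G ξ.P) ≫ ξ.π = x ≫ ξ.π) :
    tr i ξ v x e ≫ snd G ξ.P = x :=
  lift_snd _ _

theorem comp_tr {T T' : Over S} (k : T' ⟶ T) (v : T ⟶ G ⊗ ξ.P) (x : T ⟶ ξ.P)
    (e : (v ≫ snd G ξ.P) ≫ ξ.π = x ≫ ξ.π) (e' : ((k ≫ v) ≫ snd G ξ.P) ≫ ξ.π = (k ≫ x) ≫ ξ.π) :
    k ≫ tr i ξ v x e = tr i ξ (k ≫ v) (k ≫ x) e' := by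
  rw [tr, tr, comp_lift, MonObj.comp_mul, GrpObj.comp_inv, Category.assoc k v, ← Category.assoc k _ i,
    diffQ_eq ξ e' (h := k ≫ diffQ ξ (v ≫ snd G ξ.P) x e) (by rw [Category.assoc, ← comp_smp, diffQ_spec])]

theorem tr_self {T : Over S} (v : T ⟶ G ⊗ ξ.P) (x : T ⟶ ξ.P) (hx : v ≫ snd G ξ.P = x)
    (e : (v ≫ snd G ξ.P) ≫ ξ.π = x ≫ ξ.π) : tr i ξ v x e = v := by
  subst hx
  rw [tr, diffQ_eq ξ e (h := 1) (smp_one _ _), MonObj.one_comp, inv_one, _root_.mul_one, ← comp_lift,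
    lift_fst_snd, Category.comp_id]

theorem tr_tr {T : Over S} (v : T ⟶ G ⊗ ξ.P) (x y : T ⟶ ξ.P) (e : (v ≫ snd G ξ.P) ≫ ξ.π = x ≫ ξ.π)
    (e' : (tr i ξ v x e ≫ snd G ξ.P) ≫ ξ.π = y ≫ ξ.π) (e'' : (v ≫ snd G ξ.P) ≫ ξ.π = y ≫ ξ.π) :
    tr i ξ (tr i ξ v x e) y e' = tr i ξ v y e'' := by
  have hxy : x ≫ ξ.π = y ≫ ξ.π := e.symm.trans e''
  show lift ((tr i ξ v x e ≫ fst G ξ.P) * (diffQ ξ (tr i ξ v x e ≫ snd G ξ.P) y e' ≫ i)⁻¹) y =
    lift ((v ≫ fst G ξ.P) * (diffQ ξ (v ≫ snd G ξ.P) y e'' ≫ i)⁻¹) y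
  congr 1
  rw [diffQ_eq ξ e' (h := diffQ ξ x y hxy) (by rw [tr_snd, diffQ_spec]),
    diffQ_eq ξ e'' (h := diffQ ξ x y hxy * diffQ ξ (v ≫ snd G ξ.P) x e)
      (by rw [← smp_smp, diffQ_spec, diffQ_spec]),
    tr, lift_fst, MonObj.mul_comp, _root_.mul_inv_rev, _root_.mul_assoc]

/-! ### Transport on points of the underlying schemes -/

theorem hom_eq_of_lift {T : Scheme.{u}} {x₀ x₁ : T ⟶ ξ.P.left} (h : x₀ ≫ ξ.π.left = x₁ ≫ ξ.π.left)
    (v : Desc.Lifts (Over.mk (snd G ξ.P).left) x₀) : v.1 ≫ (G ⊗ ξ.P).hom = x₁ ≫ ξ.P.hom := by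
  have hv : v.1 ≫ (snd G ξ.P).left = x₀ := v.2
  rw [← Over.w (snd G ξ.P), ← Over.w ξ.π, reassoc_of% hv, reassoc_of% h]

/-- Transport, on points of the underlying schemes. -/
def trS {T : Scheme.{u}} (v : T ⟶ (G ⊗ ξ.P).left) (x : T ⟶ ξ.P.left)
    (h : v ≫ (G ⊗ ξ.P).hom = x ≫ ξ.P.hom) (e : (v ≫ (snd G ξ.P).left) ≫ ξ.π.left = x ≫ ξ.π.left) :
    T ⟶ (G ⊗ ξ.P).left :=
  (tr i ξ (Over.homMk (U := Over.mk (x ≫ ξ.P.hom)) v h) (Over.homMk x rfl) (Over.OverMorphism.ext e)).left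

theorem trS_left {T : Over S} (v : T ⟶ G ⊗ ξ.P) (x : T ⟶ ξ.P)
    (h : v.left ≫ (G ⊗ ξ.P).hom = x.left ≫ ξ.P.hom)
    (e : (v.left ≫ (snd G ξ.P).left) ≫ ξ.π.left = x.left ≫ ξ.π.left)
    (e' : (v ≫ snd G ξ.P) ≫ ξ.π = x ≫ ξ.π) :
    trS i ξ v.left x.left h e = (tr i ξ v x e').left := by
  let k : Over.mk (x.left ≫ ξ.P.hom) ⟶ T := Over.homMk (𝟙 T.left) (by
    exact (Category.id_comp _).trans (Over.w x).symm)
  have e1 : k ≫ v = Over.homMk (U := Over.mk (x.left ≫ ξ.P.hom)) v.left h :=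
    Over.OverMorphism.ext (Category.id_comp _)
  have e2 : k ≫ x = Over.homMk (U := Over.mk (x.left ≫ ξ.P.hom)) x.left rfl :=
    Over.OverMorphism.ext (Category.id_comp _)
  have e3 : ((k ≫ v) ≫ snd G ξ.P) ≫ ξ.π = (k ≫ x) ≫ ξ.π := by
    simp only [Category.assoc] at e' ⊢; rw [e']
  have h1 := congrArg Over.Hom.left (comp_tr i ξ k v x e' e3)
  refine Eq.trans ?_ (((Category.id_comp (tr i ξ v x e').left).symm.trans h1).symm)
  simp only [e1, e2]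
  rfl

theorem trS_snd {T : Scheme.{u}} (v : T ⟶ (G ⊗ ξ.P).left) (x : T ⟶ ξ.P.left)
    (h : v ≫ (G ⊗ ξ.P).hom = x ≫ ξ.P.hom) (e : (v ≫ (snd G ξ.P).left) ≫ ξ.π.left = x ≫ ξ.π.left) :
    trS i ξ v x h e ≫ (snd G ξ.P).left = x :=
  congrArg Over.Hom.left (tr_snd i ξ (Over.homMk (U := Over.mk (x ≫ ξ.P.hom)) v h) (Over.homMk x rfl)
    (Over.OverMorphism.ext e))

theorem trS_congr {T : Scheme.{u}} {v v' : T ⟶ (G ⊗ ξ.P).left} {x x' : T ⟶ ξ.P.left}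
    {h : v ≫ (G ⊗ ξ.P).hom = x ≫ ξ.P.hom} {h' : v' ≫ (G ⊗ ξ.P).hom = x' ≫ ξ.P.hom}
    {e : (v ≫ (snd G ξ.P).left) ≫ ξ.π.left = x ≫ ξ.π.left}
    {e' : (v' ≫ (snd G ξ.P).left) ≫ ξ.π.left = x' ≫ ξ.π.left} (ev : v = v') (ex : x = x') :
    trS i ξ v x h e = trS i ξ v' x' h' e' := by
  subst ev ex
  rfl

theorem trS_self {T : Scheme.{u}} (v : T ⟶ (G ⊗ ξ.P).left) (x : T ⟶ ξ.P.left)
    (h : v ≫ (G ⊗ ξ.P).hom = x ≫ ξ.P.hom) (e : (v ≫ (snd G ξ.P).left) ≫ ξ.π.left = x ≫ ξ.π.left)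
    (hx : v ≫ (snd G ξ.P).left = x) : trS i ξ v x h e = v := by
  let vo : Over.mk (x ≫ ξ.P.hom) ⟶ G ⊗ ξ.P := Over.homMk v h
  let xo : Over.mk (x ≫ ξ.P.hom) ⟶ ξ.P := Over.homMk x rfl
  exact (trS_left i ξ vo xo h e (Over.OverMorphism.ext e)).trans
    (congrArg Over.Hom.left (tr_self i ξ vo xo (Over.OverMorphism.ext hx) _))

theorem trS_trS {T : Scheme.{u}} (v : T ⟶ (G ⊗ ξ.P).left) (x y : T ⟶ ξ.P.left)
    (h : v ≫ (G ⊗ ξ.P).hom = x ≫ ξ.P.hom) (e : (v ≫ (snd G ξ.P).left) ≫ ξ.π.left = x ≫ ξ.π.left)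
    (h' : trS i ξ v x h e ≫ (G ⊗ ξ.P).hom = y ≫ ξ.P.hom)
    (e' : (trS i ξ v x h e ≫ (snd G ξ.P).left) ≫ ξ.π.left = y ≫ ξ.π.left)
    (h'' : v ≫ (G ⊗ ξ.P).hom = y ≫ ξ.P.hom) (e'' : (v ≫ (snd G ξ.P).left) ≫ ξ.π.left = y ≫ ξ.π.left) :
    trS i ξ (trS i ξ v x h e) y h' e' = trS i ξ v y h'' e'' := by
  let To := Over.mk (x ≫ ξ.P.hom)
  let vo : To ⟶ G ⊗ ξ.P := Over.homMk v h
  let xo : To ⟶ ξ.P := Over.homMk x rfl
  let yo : To ⟶ ξ.P := Over.homMk y (h''.symm.trans h)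
  have e1 : (vo ≫ snd G ξ.P) ≫ ξ.π = xo ≫ ξ.π := Over.OverMorphism.ext e
  have e2 : (tr i ξ vo xo e1 ≫ snd G ξ.P) ≫ ξ.π = yo ≫ ξ.π := Over.OverMorphism.ext e'
  have e3 : (vo ≫ snd G ξ.P) ≫ ξ.π = yo ≫ ξ.π := Over.OverMorphism.ext e''
  exact (trS_left i ξ (tr i ξ vo xo e1) yo h' e' e2).trans
    ((congrArg Over.Hom.left (tr_tr i ξ vo xo yo e1 e2 e3)).trans (trS_left i ξ vo yo h'' e'' e3).symm)

/-- The descent bijection. -/
def transp {T : Scheme.{u}} {x₀ x₁ : T ⟶ ξ.P.left} (h : x₀ ≫ ξ.π.left = x₁ ≫ ξ.π.left)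
    (v : Desc.Lifts (Over.mk (snd G ξ.P).left) x₀) : Desc.Lifts (Over.mk (snd G ξ.P).left) x₁ :=
  ⟨trS i ξ v.1 x₁ (hom_eq_of_lift ξ h v) ((congrArg (· ≫ ξ.π.left) v.2).trans h), trS_snd i ξ _ _ _ _⟩

theorem transp_self {T : Scheme.{u}} {x : T ⟶ ξ.P.left} (v : Desc.Lifts (Over.mk (snd G ξ.P).left) x) :
    transp i ξ rfl v = v :=
  Subtype.ext (trS_self i ξ v.1 x (hom_eq_of_lift ξ rfl v) (congrArg (· ≫ ξ.π.left) v.2) v.2)

theorem transp_transp {T : Scheme.{u}} {x₀ x₁ x₂ : T ⟶ ξ.P.left} (h : x₀ ≫ ξ.π.left = x₁ ≫ ξ.π.left)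
    (h' : x₁ ≫ ξ.π.left = x₂ ≫ ξ.π.left) (v : Desc.Lifts (Over.mk (snd G ξ.P).left) x₀) :
    transp i ξ h' (transp i ξ h v) = transp i ξ (h.trans h') v :=
  Subtype.ext (trS_trS i ξ v.1 x₁ x₂ (hom_eq_of_lift ξ h v) ((congrArg (· ≫ ξ.π.left) v.2).trans h)
    (hom_eq_of_lift ξ h' (transp i ξ h v)) ((congrArg (· ≫ ξ.π.left) (transp i ξ h v).2).trans h')
    (hom_eq_of_lift ξ (h.trans h') v) ((congrArg (· ≫ ξ.π.left) v.2).trans (h.trans h')))

/-- The descent datum of the contracted product. -/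
def datum : Desc.SchDD ξ.π.left where
  obj := Over.mk (snd G ξ.P).left
  φ T x₀ x₁ h :=
    { toFun := transp i ξ h
      invFun := transp i ξ h.symm
      left_inv := fun v => (transp_transp i ξ h h.symm v).trans (transp_self i ξ v)
      right_inv := fun v => (transp_transp i ξ h.symm h v).trans (transp_self i ξ v) }
  φ_natural T T' g x₀ x₁ h h' v v' hv := by
    show trS i ξ v'.1 (g ≫ x₁) (hom_eq_of_lift ξ h' v') ((congrArg (· ≫ ξ.π.left) v'.2).trans h') =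
      g ≫ trS i ξ v.1 x₁ (hom_eq_of_lift ξ h v) ((congrArg (· ≫ ξ.π.left) v.2).trans h)
    let vo : Over.mk (x₁ ≫ ξ.P.hom) ⟶ G ⊗ ξ.P := Over.homMk v.1 (hom_eq_of_lift ξ h v)
    let xo : Over.mk (x₁ ≫ ξ.P.hom) ⟶ ξ.P := Over.homMk x₁ rfl
    let k : Over.mk (g ≫ x₁ ≫ ξ.P.hom) ⟶ Over.mk (x₁ ≫ ξ.P.hom) := Over.homMk g rfl
    have e1 : (vo ≫ snd G ξ.P) ≫ ξ.π = xo ≫ ξ.π :=
      Over.OverMorphism.ext ((congrArg (· ≫ ξ.π.left) v.2).trans h)
    have e2 : ((k ≫ vo) ≫ snd G ξ.P) ≫ ξ.π = (k ≫ xo) ≫ ξ.π := by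
      simp only [Category.assoc] at e1 ⊢; rw [e1]
    exact ((trS_congr i ξ (h' := (Over.w (k ≫ vo)).trans (Over.w (k ≫ xo)).symm)
      (e' := congrArg Over.Hom.left e2) hv rfl).trans (trS_left i ξ (k ≫ vo) (k ≫ xo)
      ((Over.w _).trans (Over.w _).symm) (congrArg Over.Hom.left e2) e2)).trans
      (congrArg Over.Hom.left (comp_tr i ξ k vo xo e1 e2).symm)
  φ_self T x v := transp_self i ξ v
  φ_comp T x₀ x₁ x₂ h₀₁ h₁₂ v := transp_transp i ξ h₀₁ h₁₂ v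

/-- The contracted product as a scheme with its quotient map. -/
theorem exists_quot [IsAffineHom G.hom] [Flat H.hom] [LocallyOfFinitePresentation H.hom] :
    ∃ (Q : Over S) (π : Q ⟶ ξ.base) (qo : G ⊗ ξ.P ⟶ Q),
      IsPullback (snd G ξ.P) qo ξ.π π ∧ fppfCover qo.left ∧
      ∀ (T : Over S) (v : T ⟶ G ⊗ ξ.P) (x : T ⟶ ξ.P) (e : (v ≫ snd G ξ.P) ≫ ξ.π = x ≫ ξ.π),
        tr i ξ v x e ≫ qo = v ≫ qo := by
  have hcov : fppfCover ξ.π.left := fppfCover_torsor ξ.cart ξ.loc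
  have := hcov.1.1; have := hcov.1.2; have := hcov.2
  have haff : IsAffineHom (datum i ξ).obj.hom := by
    show IsAffineHom (snd G ξ.P).left
    exact GrpSch.snd_left_of (P := @IsAffineHom) ξ.P ‹IsAffineHom G.hom›
  obtain ⟨U, q, hq, -⟩ := FFDesc.exists_isDescended (datum i ξ) (FFDesc.fpqcCover_of_lfp ξ.π.left)
    (AlgSpMor.RepDescent.isQuasiAffine_of_isAffineHom _)
  let Q : Over S := Over.mk (U.hom ≫ ξ.base.hom)
  let π : Q ⟶ ξ.base := Over.homMk U.hom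
  let q' : (G ⊗ ξ.P).left ⟶ U.left := q
  have hpb : IsPullback (snd G ξ.P).left q' ξ.π.left U.hom := hq.isPullback
  have hw : (snd G ξ.P).left ≫ ξ.π.left = q' ≫ U.hom := hpb.w
  let qo : G ⊗ ξ.P ⟶ Q := Over.homMk q' (by
    show q' ≫ U.hom ≫ ξ.base.hom = (G ⊗ ξ.P).hom
    rw [← Category.assoc, ← hw, Category.assoc, Over.w ξ.π, Over.w (snd G ξ.P)])
  refine ⟨Q, π, qo, IsPullback.of_map (Over.forget S) (Over.OverMorphism.ext hw) hpb,
    MorphismProperty.of_isPullback hpb hcov, fun T v x e => Over.OverMorphism.ext ?_⟩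
  have e0 : (v.left ≫ (snd G ξ.P).left) ≫ ξ.π.left = x.left ≫ ξ.π.left := congrArg Over.Hom.left e
  show (tr i ξ v x e).left ≫ q' = v.left ≫ q'
  rw [← trS_left i ξ v x ((Over.w v).trans (Over.w x).symm) e0 e]
  exact hq.φ_comp_q (v.left ≫ (snd G ξ.P).left) x.left e0 ⟨v.left, rfl⟩

variable {i} {aY : AlgGrp.Action G Y} {j : G ⊗ Z ⟶ Y}
  (hY : ChGrp.IsBalProd Scheme.fppfPrecoverage i aZ aY j)
  [IsAffineHom G.hom] [Flat H.hom] [LocallyOfFinitePresentation H.hom]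

theorem exists_preimage : ∃ (A : QuotObj Scheme.fppfPrecoverage G aY) (e : objE hY A ≅ ξ)
    (h : A.base = ξ.base), e.hom.base = eqToHom h := by
  obtain ⟨Q, π, qo, hsq, hc, htr⟩ := exists_quot i ξ
  have := epi_of_cover hc
  have hπcov : fppfCover ξ.π.left := fppfCover_torsor ξ.cart ξ.loc
  -- equality of two classes
  have hker : ∀ {T : Over S} (v w : T ⟶ G ⊗ ξ.P), v ≫ qo = w ≫ qo →
      ∃ e : (v ≫ snd G ξ.P) ≫ ξ.π = (w ≫ snd G ξ.P) ≫ ξ.π, tr i ξ v (w ≫ snd G ξ.P) e = w := by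
    intro T v w h
    have e : (v ≫ snd G ξ.P) ≫ ξ.π = (w ≫ snd G ξ.P) ≫ ξ.π := by
      rw [Category.assoc, Category.assoc, hsq.w, reassoc_of% h]
    exact ⟨e, hsq.hom_ext (by rw [tr_snd]) (by rw [htr, h])⟩
  have htrl : ∀ {T : Over S} (g : T ⟶ G) (h : T ⟶ H) (p : T ⟶ ξ.P),
      lift (g * (h ≫ i)⁻¹) (smp ξ.act h p) ≫ qo = lift g p ≫ qo := by
    intro T g h p
    have e : (lift g p ≫ snd G ξ.P) ≫ ξ.π = smp ξ.act h p ≫ ξ.π := by rw [lift_snd, smp_π ξ.cart]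
    rw [← htr T (lift g p) (smp ξ.act h p) e, tr, lift_fst, diffQ_eq ξ e (h := h) (by rw [lift_snd])]
  have heta : ∀ {T : Over S} (v : T ⟶ G ⊗ ξ.P), lift (v ≫ fst _ _) (v ≫ snd _ _) = v := fun v => by
    rw [← comp_lift, lift_fst_snd, Category.comp_id]
  -- the action
  let m : G ⊗ (G ⊗ ξ.P) ⟶ Q :=
    lift (fst _ _ * (snd G (G ⊗ ξ.P) ≫ fst G ξ.P)) (snd G (G ⊗ ξ.P) ≫ snd G ξ.P) ≫ qo
  have hm : ∀ {T : Over S} (c : T ⟶ G) (v : T ⟶ G ⊗ ξ.P),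
      lift c v ≫ m = lift (c * (v ≫ fst _ _)) (v ≫ snd _ _) ≫ qo := by
    intro T c v
    simp only [m, comp_lift_assoc, MonObj.comp_mul, lift_fst, lift_snd_assoc]
  obtain ⟨act₀, hact₀⟩ := exists_desc (c := G ◁ qo)
    (GrpSch.whiskerLeft_left_of (P := fppfCover) G qo hc) m fun T w w' hw => by
      have h1 := congrArg (· ≫ fst G Q) hw
      have h2 := congrArg (· ≫ snd G Q) hw
      simp only [Category.assoc, whiskerLeft_fst, whiskerLeft_snd] at h1 h2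
      rw [← Category.assoc w, ← Category.assoc w'] at h2
      obtain ⟨e, he⟩ := hker _ _ h2
      rw [← Category.comp_id w, ← Category.comp_id w', ← lift_fst_snd, comp_lift, comp_lift, hm, hm, ← h1, ← he]
      rw [tr, lift_fst, lift_snd]
      rw [← htrl ((w ≫ fst G (G ⊗ ξ.P)) * ((w ≫ snd G (G ⊗ ξ.P)) ≫ fst G ξ.P)) (diffQ ξ _ _ e)
        ((w ≫ snd G (G ⊗ ξ.P)) ≫ snd G ξ.P), diffQ_spec, _root_.mul_assoc]
  have hact : ∀ {T : Over S} (c g : T ⟶ G) (p : T ⟶ ξ.P),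
      lift c (lift g p ≫ qo) ≫ act₀ = lift (c * g) p ≫ qo := by
    intro T c g p
    rw [← lift_whiskerLeft, Category.assoc, hact₀, hm, lift_fst, lift_snd]
  have hu : ∀ {T : Over S} (u : T ⟶ 𝟙_ (Over S)), u ≫ η[G] = 1 := fun u => by
    rw [Hom.one_def, toUnit_unique (toUnit _) u]
  let aQ : AlgGrp.Action G Q :=
    { act := act₀
      one_act := by
        have := epi_of_cover (c := 𝟙_ (Over S) ◁ qo) (GrpSch.whiskerLeft_left_of (P := fppfCover) _ qo hc)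
        rw [← cancel_epi (𝟙_ (Over S) ◁ qo)]
        refine AlgGrp.Action.hom_ext_lift₂ fun T u v => ?_
        rw [lift_whiskerLeft_assoc, lift_whiskerLeft_assoc, lift_whiskerRight_assoc, hu, leftUnitor_hom, lift_snd,
          ← heta v, hact, _root_.one_mul]
      mul_act := by
        have := epi_of_cover (c := (G ⊗ G) ◁ qo) (GrpSch.whiskerLeft_left_of (P := fppfCover) _ qo hc)
        rw [← cancel_epi ((G ⊗ G) ◁ qo)]
        refine AlgGrp.Action.hom_ext_lift₃ fun T c c' v => ?_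
        rw [lift_whiskerLeft_assoc, lift_whiskerLeft_assoc, lift_whiskerRight_assoc, ← Hom.mul_def,
          lift_lift_associator_hom_assoc, lift_whiskerLeft_assoc, ← heta v, hact, hact, hact, _root_.mul_assoc] }
  have haQ : ∀ {T : Over S} (c g : T ⟶ G) (p : T ⟶ ξ.P),
      smp aQ c (lift g p ≫ qo) = lift (c * g) p ≫ qo := hact
  have hπq : ∀ {T : Over S} (g : T ⟶ G) (p : T ⟶ ξ.P), lift g p ≫ qo ≫ π = p ≫ ξ.π := by
    intro T g p; rw [← hsq.w, lift_snd_assoc]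
  have hinj : ∀ {T : Over S} {g g' : T ⟶ G} {p : T ⟶ ξ.P},
      lift g p ≫ qo = lift g' p ≫ qo → g = g' := by
    intro T g g' p h
    have := hsq.hom_ext (k := lift g p) (l := lift g' p) (by rw [lift_snd, lift_snd]) h
    simpa using congrArg (· ≫ fst G ξ.P) this
  have hwπ : aQ.act ≫ π = snd G Q ≫ π := by
    have := epi_of_cover (c := G ◁ qo) (GrpSch.whiskerLeft_left_of (P := fppfCover) _ qo hc)
    rw [← cancel_epi (G ◁ qo)]
    refine AlgGrp.Action.hom_ext_lift₂ fun T c v => ?_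
    rw [lift_whiskerLeft_assoc, lift_whiskerLeft_assoc, lift_snd_assoc, ← Category.assoc, ← heta v]
    show smp aQ c _ ≫ π = _
    rw [haQ, Category.assoc, Category.assoc, hπq, hπq]
  -- a common lift of two points over one base point
  have hlift : ∀ {T : Over S} (x : T ⟶ Q) (p : T ⟶ ξ.P), p ≫ ξ.π = x ≫ π → ∃ g, lift g p ≫ qo = x := by
    intro T x p h
    refine ⟨hsq.lift p x h ≫ fst _ _, ?_⟩
    have e1 : hsq.lift p x h ≫ snd _ _ = p := hsq.lift_fst _ _ _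
    conv_lhs => arg 1; arg 2; rw [← e1]
    rw [heta, hsq.lift_snd]
  have hcart : IsPullback aQ.act (snd G Q) π π := by
    have hex : ∀ c : PullbackCone π π, ∃ g : c.pt ⟶ G, smp aQ g c.snd = c.fst := by
      intro c
      let w₁ := pullback.fst (c.snd ≫ π) ξ.π
      let p := pullback.snd (c.snd ≫ π) ξ.π
      have hc₁ : fppfCover w₁.left := MorphismProperty.of_isPullback
        ((IsPullback.of_hasPullback (c.snd ≫ π) ξ.π).map (Over.forget S)).flip hπcov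
      have := epi_of_cover hc₁
      have hp : p ≫ ξ.π = (w₁ ≫ c.snd) ≫ π := by
        rw [Category.assoc]; exact pullback.condition.symm
      obtain ⟨g, hg⟩ := hlift (w₁ ≫ c.snd) p hp
      obtain ⟨g', hg'⟩ := hlift (w₁ ≫ c.fst) p (by rw [hp, Category.assoc, Category.assoc, c.condition])
      have key : ∀ {T : Over S} (w : T ⟶ pullback (c.snd ≫ π) ξ.π),
          smp aQ (w ≫ (g' * g⁻¹)) ((w ≫ w₁) ≫ c.snd) = (w ≫ w₁) ≫ c.fst := by
        intro T w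
        rw [Category.assoc, Category.assoc, ← comp_smp, ← hg, haQ, inv_mul_cancel_right, hg']
      obtain ⟨γ₁, hγ⟩ := exists_desc hc₁ (g' * g⁻¹) fun T w w' e => by
        -- uniqueness of the translation
        have k1 := key w
        have k2 := key w'
        rw [← e] at k2
        let v := w ≫ (lift g p)
        have hv : v ≫ qo = (w ≫ w₁) ≫ c.snd := by
          rw [Category.assoc, hg, Category.assoc]
        rw [← hv, ← heta v, haQ] at k1 k2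
        exact mul_right_cancel (hinj (k1.trans k2.symm))
      refine ⟨γ₁, ?_⟩
      rw [← cancel_epi w₁, comp_smp, hγ]
      simpa using key (𝟙 _)
    choose l hl using hex
    refine ⟨⟨hwπ⟩, ⟨PullbackCone.IsLimit.mk hwπ (fun c => lift (l c) c.snd) hl (fun c => lift_snd _ _)
      fun c k hk₁ hk₂ => ?_⟩⟩
    let w₁ := pullback.fst (c.snd ≫ π) ξ.π
    let p := pullback.snd (c.snd ≫ π) ξ.π
    have hc₁ : fppfCover w₁.left := MorphismProperty.of_isPullback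
      ((IsPullback.of_hasPullback (c.snd ≫ π) ξ.π).map (Over.forget S)).flip hπcov
    have := epi_of_cover hc₁
    obtain ⟨g, hg⟩ := hlift (w₁ ≫ c.snd) p (by rw [Category.assoc]; exact pullback.condition.symm)
    have hk : k = lift (k ≫ fst _ _) c.snd := by rw [← hk₂, ← comp_lift, lift_fst_snd, Category.comp_id]
    rw [hk]
    congr 1
    rw [← cancel_epi w₁]
    have e : smp aQ (w₁ ≫ k ≫ fst _ _) (w₁ ≫ c.snd) = smp aQ (w₁ ≫ l c) (w₁ ≫ c.snd) := by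
      rw [← comp_smp, ← comp_smp]
      congr 1
      refine Eq.trans ?_ (hl c).symm
      rw [smp, ← hk]; exact hk₁
    rw [← hg, haQ, haQ] at e
    exact mul_right_cancel (hinj e)
  -- the map to `Y`
  obtain ⟨φ, hφ⟩ := exists_desc hc ((G ◁ ξ.φ) ≫ j) fun T v w h => by
    obtain ⟨e, he⟩ := hker v w h
    have hd := diffQ_spec ξ (v ≫ snd G ξ.P) (w ≫ snd G ξ.P) e
    rw [← heta v, ← heta w, lift_whiskerLeft_assoc, lift_whiskerLeft_assoc]
    have hfst : w ≫ fst G ξ.P = (v ≫ fst G ξ.P) * (diffQ ξ _ _ e ≫ i)⁻¹ :=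
      (congrArg (· ≫ fst G ξ.P) he).symm.trans (lift_fst _ _)
    have hsnd : (w ≫ snd G ξ.P) ≫ ξ.φ = smp aZ (diffQ ξ _ _ e) ((v ≫ snd G ξ.P) ≫ ξ.φ) :=
      (congrArg (· ≫ ξ.φ) hd).symm.trans (smp_comp ξ.act aZ ξ.eqv _ _)
    rw [hfst, hsnd, lift_twist_j hY]
  have hφl : ∀ {T : Over S} (g : T ⟶ G) (p : T ⟶ ξ.P),
      (lift g p ≫ qo) ≫ φ = lift g (p ≫ ξ.φ) ≫ j := by
    intro T g p; rw [Category.assoc, hφ, lift_whiskerLeft_assoc]
  have heqv : aQ.act ≫ φ = (G ◁ φ) ≫ aY.act := by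
    have := epi_of_cover (c := G ◁ qo) (GrpSch.whiskerLeft_left_of (P := fppfCover) _ qo hc)
    rw [← cancel_epi (G ◁ qo)]
    refine AlgGrp.Action.hom_ext_lift₂ fun T c v => ?_
    rw [lift_whiskerLeft_assoc, lift_whiskerLeft_assoc, lift_whiskerLeft_assoc, ← heta v, ← Category.assoc, ← smp,
      haQ, hφl, ← smp, hφl, lift_j hY, lift_j hY, smp_smp]
  have hloc : NonAbH1.IsLocallyTrivialFor Scheme.fppfPrecoverage (Over.mk π.left : Over ξ.base.left) := by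
    refine isLocallyTrivialFor_of_cover ξ.π.left hπcov (lift (1 : ξ.P ⟶ G) (𝟙 ξ.P) ≫ qo).left ?_
    have : (lift (1 : ξ.P ⟶ G) (𝟙 ξ.P) ≫ qo) ≫ π = ξ.π := by rw [Category.assoc, hπq, Category.id_comp]
    exact congrArg Over.Hom.left this
  let A : QuotObj Scheme.fppfPrecoverage G aY := ⟨ξ.base, Q, aQ, π, hcart, hloc, φ, heqv⟩
  -- the comparison with the part over `Z`
  let t : ξ.P ⟶ pullback φ (j₀ j) := pullback.lift (lift 1 (𝟙 _) ≫ qo) ξ.φ (by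
    rw [hφl, Category.id_comp, comp_j₀])
  have ht₁ : ∀ {T : Over S} (p : T ⟶ ξ.P), p ≫ t ≫ pullback.fst _ _ = lift 1 p ≫ qo := fun p => by
    rw [pullback.lift_fst, comp_lift_assoc, MonObj.comp_one, Category.comp_id]
  have ht₂ : ∀ {T : Over S} (p : T ⟶ ξ.P), p ≫ t ≫ pullback.snd _ _ = p ≫ ξ.φ := fun p => by
    rw [pullback.lift_snd]
  have tinj : ∀ {T : Over S} (p p' : T ⟶ ξ.P), p ≫ t = p' ≫ t → p = p' := by
    intro T p p' h
    have h1 := congrArg (· ≫ pullback.fst _ _) h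
    have h2 := congrArg (· ≫ pullback.snd _ _) h
    simp only [Category.assoc] at h1 h2
    rw [ht₁, ht₁] at h1
    rw [ht₂, ht₂] at h2
    obtain ⟨e, he⟩ := hker _ _ h1
    have hd := diffQ_spec ξ _ _ e
    have hi := (lift_fst _ _).symm.trans (congrArg (· ≫ fst G ξ.P) he)
    revert hd hi
    generalize diffQ ξ _ _ e = d
    intro hd hi
    simp only [lift_fst, lift_snd, _root_.one_mul] at hd hi
    have hs := congrArg (· ≫ ξ.φ) hd
    simp only [smp_comp ξ.act aZ ξ.eqv, h2] at hs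
    have h1' : d = 1 := twist_cancel hY (p' ≫ ξ.φ)
      ((_root_.inv_eq_one.1 hi).trans (MonObj.one_comp i).symm) (hs.trans (smp_one aZ _).symm)
    rw [h1', smp_one] at hd
    exact hd
  let W := pullback (pullback.fst φ (j₀ j)) qo
  let c₁ : W ⟶ pullback φ (j₀ j) := pullback.fst _ _
  let v₁ : W ⟶ G ⊗ ξ.P := pullback.snd _ _
  have hc₁ : fppfCover c₁.left := MorphismProperty.of_isPullback
    ((IsPullback.of_hasPullback (pullback.fst φ (j₀ j)) qo).map (Over.forget S)).flip hc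
  have := epi_of_cover hc₁
  have hcv : (c₁ ≫ pullback.fst _ _) = lift (v₁ ≫ fst _ _) (v₁ ≫ snd _ _) ≫ qo := by
    rw [heta]; exact pullback.condition
  obtain ⟨h₁, hh₁, hh₂⟩ := exists_twist hY (g := v₁ ≫ fst _ _) (g' := 1) (z := (v₁ ≫ snd _ _) ≫ ξ.φ)
    (z' := c₁ ≫ pullback.snd _ _) (by
      rw [← hφl, ← hcv, ← comp_j₀, Category.assoc, Category.assoc, pullback.condition])
  let r : W ⟶ ξ.P := smp ξ.act h₁ (v₁ ≫ snd _ _)
  have hr : r ≫ t = c₁ := by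
    refine pullback.hom_ext ?_ ?_
    · rw [Category.assoc, ht₁, hh₁, htrl, ← hcv]
    · rw [Category.assoc, ht₂, smp_comp ξ.act aZ ξ.eqv, hh₂]
  obtain ⟨ti, hti⟩ := exists_desc hc₁ r fun T w w' e =>
    tinj _ _ (by rw [Category.assoc, hr, e, Category.assoc, hr])
  have hti₂ : ti ≫ t = 𝟙 _ := by rw [← cancel_epi c₁, reassoc_of% hti, hr, Category.comp_id]
  have : IsIso t := ⟨ti, tinj _ _ (by rw [Category.assoc, hti₂, Category.comp_id, Category.id_comp]), hti₂⟩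
  have heqt : ξ.act.act ≫ t = (H ◁ t) ≫ (actE hY A).act := by
    refine AlgGrp.Action.hom_ext_lift₂ fun T h p => ?_
    rw [lift_whiskerLeft_assoc, ← Category.assoc]
    show smp ξ.act h p ≫ t = smp (actE hY A) h (p ≫ t)
    refine pullback.hom_ext ?_ ?_
    · rw [smp_actE_fst, Category.assoc (smp ξ.act h p) t, Category.assoc p t, ht₁, ht₁]
      show _ = smp aQ _ _
      rw [haQ, ← htrl (h ≫ i * 1) h p, _root_.mul_one, mul_inv_cancel]
    · rw [smp_actE_snd, Category.assoc (smp ξ.act h p) t, Category.assoc p t, ht₂, ht₂, smp_comp ξ.act aZ ξ.eqv]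
  have htπ : t ≫ pullback.fst _ _ ≫ π = ξ.π := by
    rw [← Category.assoc, pullback.lift_fst, Category.assoc, hπq, Category.id_comp]
  let M : ξ ⟶ objE hY A :=
    { base := 𝟙 ξ.base
      top := t
      eqv := heqt
      cart := IsPullback.of_horiz_isIso ⟨(htπ.trans (Category.comp_id _).symm : _)⟩
      wφ := pullback.lift_snd _ _ _ }
  have : IsIso M.base := inferInstanceAs (IsIso (𝟙 ξ.base))
  have := Lib.QuotSt.isIso_of_base M
  refine ⟨A, (asIso M).symm, rfl, ?_⟩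
  have h := congrArg (fun f => f.base) (asIso M).inv_hom_id
  have h' : (asIso M).inv.base ≫ 𝟙 ξ.base = 𝟙 _ := h
  exact (Category.comp_id _).symm.trans h'

theorem essSurjOver_functorE : Lib.Fibred.EquivOver.EssSurjOver (functorE hY) := fun ξ => by
  obtain ⟨A, e, h, he⟩ := exists_preimage ξ hY
  refine ⟨A, e, ?_⟩
  have : (QuotSt Scheme.fppfPrecoverage H aZ).p.map e.hom = eqToHom h := he
  exact IsHomLift.of_fac' _ _ _ h rfl (by rw [this]; simp)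

include hY in
/-- The two quotient stacks are equivalent. -/
theorem isQuotientOf :
    AlgSt.IsQuotientOf Scheme.fppfPrecoverage H aZ (QuotSt Scheme.fppfPrecoverage G aY) := by
  obtain ⟨E, h₁, h₂⟩ := Lib.Fibred.EquivOver.isEquivOver_of_ff_essSurj (functorE hY) (essSurjOver_functorE hY)
  exact ⟨E, functorE hY, h₂, h₁⟩

end Groth.Agent.Lib.QuotStk86
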