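import Groth.Agent.Lib.QuotStk86.Functor
import Groth.Agent.Lib.QuotSt.Atlas

/-!
# The comparison functor is fully faithful
-/

set_option autoImplicit false
set_option backward.isDefEq.respectTransparency false
set_option backward.isDefEq.respectTransparency.types false

universe u

open CategoryTheory CategoryTheory.Limits MonoidalCategory CartesianMonoidalCategory MonObj GrpObj AlgebraicGeometry

noncomputable section

namespace Groth.Agent.Lib.QuotStk86

open Groth.Agent.Lib.AlgSpace (fppfCover)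
open AlgSt (QuotObj QuotSt)

variable {S : Scheme.{u}}

theorem effectiveEpi_left {W M : Over S} {c : W ⟶ M} (hc : fppfCover c.left) : EffectiveEpi c.left :=
  have := hc.1.1
  have := hc.1.2
  have := hc.2
  (FFDesc.fpqcCover_of_lfp c.left).effectiveEpi

theorem epi_of_cover {W M : Over S} {c : W ⟶ M} (hc : fppfCover c.left) : Epi c :=
  have := effectiveEpi_left hc
  (Over.forget _).epi_of_epi_map (inferInstanceAs (Epi c.left))

/-- Invariant morphisms descend along covers. -/
theorem exists_desc {W M N : Over S} {c : W ⟶ M} (hc : fppfCover c.left) (k : W ⟶ N)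
    (hk : ∀ (T : Over S) (w w' : T ⟶ W), w ≫ c = w' ≫ c → w ≫ k = w' ≫ k) :
    ∃ v : M ⟶ N, c ≫ v = k := by
  have := effectiveEpi_left hc
  have hall : ∀ {Z : Scheme.{u}} (g₁ g₂ : Z ⟶ W.left),
      g₁ ≫ c.left = g₂ ≫ c.left → g₁ ≫ k.left = g₂ ≫ k.left := by
    intro Z g₁ g₂ hg
    let k₂ : Over.mk (g₁ ≫ W.hom) ⟶ W := Over.homMk g₂ (by
      change g₂ ≫ W.hom = g₁ ≫ W.hom
      rw [← Over.w c, ← Category.assoc, ← hg, Category.assoc])
    let k₁ : Over.mk (g₁ ≫ W.hom) ⟶ W := Over.homMk g₁ rfl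
    exact congrArg Over.Hom.left (hk _ k₁ k₂ (Over.OverMorphism.ext hg))
  refine ⟨Over.homMk (EffectiveEpi.desc c.left k.left hall) ?_,
    Over.OverMorphism.ext (EffectiveEpi.fac _ _ hall)⟩
  rw [← cancel_epi c.left, EffectiveEpi.fac_assoc, Over.w k, Over.w c]

variable {G H Z Y : Over S} [GrpObj G] [GrpObj H] {i : H ⟶ G} [IsMonHom i]
  {aZ : AlgGrp.Action H Z} {aY : AlgGrp.Action G Y} {j : G ⊗ Z ⟶ Y}
  (hY : ChGrp.IsBalProd Scheme.fppfPrecoverage i aZ aY j) [Flat H.hom] [LocallyOfFinitePresentation H.hom]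

variable (A : QuotObj Scheme.fppfPrecoverage G aY)

/-- The cover of a torsor by lifts of its map to `Y`. -/
abbrev wp (j : G ⊗ Z ⟶ Y) : pullback A.φ j ⟶ A.P := pullback.fst _ _

include hY in
theorem fppfCover_wp : fppfCover (wp A j).left :=
  MorphismProperty.of_isPullback ((IsPullback.of_hasPullback A.φ j).map (Over.forget S)).flip (fppfCover_j hY)

include hY in
theorem exists_decomp {T : Over S} (w : T ⟶ pullback A.φ j) :
    ∃ (g : T ⟶ G) (x : T ⟶ pullback A.φ (j₀ j)), smp A.act g (x ≫ pullback.fst _ _) = w ≫ wp A j ∧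
      lift g (x ≫ pullback.snd _ _) = w ≫ pullback.snd A.φ j := by
  obtain ⟨x, h₁, h₂⟩ := exists_point hY A (w ≫ wp A j) (w ≫ pullback.snd _ _ ≫ fst G Z)
    (w ≫ pullback.snd _ _ ≫ snd G Z) (by
      rw [← comp_lift, ← comp_lift, lift_fst_snd, Category.comp_id, Category.assoc, Category.assoc]
      exact congrArg (w ≫ ·) pullback.condition)
  refine ⟨w ≫ pullback.snd _ _ ≫ fst G Z, x, ?_, ?_⟩
  · rw [h₁, smp_smp, mul_inv_cancel, smp_one]
  · rw [h₂, ← comp_lift, ← comp_lift, lift_fst_snd, Category.comp_id]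

include hY in
theorem hom_ext_torsor {N : Over S} {u v : A.P ⟶ N}
    (h : ∀ (T : Over S) (g : T ⟶ G) (x : T ⟶ pullback A.φ (j₀ j)),
      smp A.act g (x ≫ pullback.fst _ _) ≫ u = smp A.act g (x ≫ pullback.fst _ _) ≫ v) : u = v := by
  have := epi_of_cover (fppfCover_wp hY A)
  rw [← cancel_epi (wp A j)]
  obtain ⟨g, x, hgx, -⟩ := exists_decomp hY A (𝟙 (pullback A.φ j))
  rw [Category.id_comp] at hgx
  rw [← hgx]
  exact h _ g x

instance faithful_functorE : (functorE hY).toFunctor.Faithful where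
  map_injective {A B} f f' e := by
    have hb : f.base = f'.base := congrArg (fun r => r.base) e
    have ht : pullback.fst A.φ (j₀ j) ≫ f.top = pullback.fst A.φ (j₀ j) ≫ f'.top := by
      have := congrArg (fun r => r.top ≫ pullback.fst B.φ (j₀ j)) e
      simpa [functorE, mapE] using this
    refine AlgSt.QuotObj.hom_ext hb (hom_ext_torsor hY A fun T g x => ?_)
    rw [smp_comp A.act B.act f.eqv, smp_comp A.act B.act f'.eqv, Category.assoc, Category.assoc, ht]

variable {A} {B : QuotObj Scheme.fppfPrecoverage G aY} (u : objE hY A ⟶ objE hY B)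

/-- The map on the part of the torsor over `Z`. -/
abbrev uι : pullback A.φ (j₀ j) ⟶ B.P := u.top ≫ pullback.fst B.φ (j₀ j)

theorem smp_uι {T : Over S} (h : T ⟶ H) (x : T ⟶ pullback A.φ (j₀ j)) :
    smp (actE hY A) h x ≫ uι hY u = smp B.act (h ≫ i) (x ≫ uι hY u) := by
  have e : smp (actE hY A) h x ≫ u.top = smp (actE hY B) h (x ≫ u.top) :=
    smp_comp (actE hY A) (actE hY B) u.eqv h x
  show smp (actE hY A) h x ≫ u.top ≫ _ = _
  rw [← Category.assoc, e, smp_actE_fst, Category.assoc]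

theorem uι_inv {T : Over S} (g g' : T ⟶ G) (x x' : T ⟶ pullback A.φ (j₀ j))
    (e : smp A.act g (x ≫ pullback.fst _ _) = smp A.act g' (x' ≫ pullback.fst _ _)) :
    smp B.act g (x ≫ uι hY u) = smp B.act g' (x' ≫ uι hY u) := by
  have hφ := congrArg (· ≫ A.φ) e
  simp only [smp_comp A.act aY A.eqv, Category.assoc, pullback.condition] at hφ
  rw [← Category.assoc x, ← Category.assoc x', ← lift_j hY, ← lift_j hY] at hφ
  obtain ⟨h, hg, hz⟩ := exists_twist hY hφ
  have hx : x' = smp (actE hY A) h x := by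
    refine pullback.hom_ext ?_ (by rw [smp_actE_snd, hz])
    rw [smp_actE_fst, ← inv_smp A.act g' e.symm, smp_smp, hg, _root_.mul_inv_rev, _root_.inv_inv, _root_.mul_assoc, inv_mul_cancel,
      _root_.mul_one]
  rw [hx, smp_uι, smp_smp, hg, _root_.mul_assoc, inv_mul_cancel, _root_.mul_one]

theorem exists_hom : ∃ f : A ⟶ B, mapE hY f = u := by
  let k : pullback A.φ j ⟶ B.P :=
    smp B.act (exists_decomp hY A (𝟙 _)).choose ((exists_decomp hY A (𝟙 _)).choose_spec.choose ≫ uι hY u)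
  have hk : ∀ {T : Over S} (w : T ⟶ pullback A.φ j) (g : T ⟶ G) (x : T ⟶ pullback A.φ (j₀ j)),
      smp A.act g (x ≫ pullback.fst _ _) = w ≫ wp A j → w ≫ k = smp B.act g (x ≫ uι hY u) := by
    intro T w g x e
    rw [comp_smp, ← Category.assoc]
    refine uι_inv hY u _ _ _ _ ?_
    rw [e, Category.assoc, ← comp_smp, (exists_decomp hY A (𝟙 _)).choose_spec.choose_spec.1, Category.id_comp]
  obtain ⟨v, hv'⟩ := exists_desc (fppfCover_wp hY A) k fun T w w' e => by
    obtain ⟨g, x, hgx, -⟩ := exists_decomp hY A w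
    rw [hk w g x hgx, hk w' g x (hgx.trans e)]
  have hv : ∀ {T : Over S} (g : T ⟶ G) (x : T ⟶ pullback A.φ (j₀ j)),
      smp A.act g (x ≫ pullback.fst _ _) ≫ v = smp B.act g (x ≫ uι hY u) := by
    intro T g x
    let w : T ⟶ pullback A.φ j := pullback.lift (smp A.act g (x ≫ pullback.fst _ _))
      (lift g (x ≫ pullback.snd _ _)) (by
        rw [smp_comp A.act aY A.eqv, lift_j hY, Category.assoc, Category.assoc, pullback.condition])
    have hw : w ≫ wp A j = smp A.act g (x ≫ pullback.fst _ _) := pullback.lift_fst _ _ _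
    rw [← hw, Category.assoc, hv', hk w g x hw.symm]
  have huπ : ∀ {T : Over S} (x : T ⟶ pullback A.φ (j₀ j)),
      x ≫ uι hY u ≫ B.π = x ≫ pullback.fst _ _ ≫ A.π ≫ u.base := by
    intro T x
    exact congrArg (x ≫ ·) ((Category.assoc _ _ _).trans (u.cart.w.trans (Category.assoc _ _ _)))
  have heqv : A.act.act ≫ v = (G ◁ v) ≫ B.act.act := by
    have := epi_of_cover (c := G ◁ wp A j) (GrpSch.whiskerLeft_left_of (P := fppfCover) G _ (fppfCover_wp hY A))
    rw [← cancel_epi (G ◁ wp A j)]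
    refine AlgGrp.Action.hom_ext_lift₂ fun T c₀ w => ?_
    obtain ⟨g, x, hgx, -⟩ := exists_decomp hY A w
    rw [lift_whiskerLeft_assoc, lift_whiskerLeft_assoc, lift_whiskerLeft_assoc, ← hgx, hv, ← Category.assoc,
      ← smp, smp_smp, hv, ← smp, smp_smp]
  have hw : v ≫ B.π = A.π ≫ u.base := hom_ext_torsor hY A fun T g x => by
    rw [← Category.assoc, hv, smp_π B.cart, Category.assoc, huπ, ← Category.assoc (smp A.act g _), smp_π A.cart, Category.assoc, Category.assoc]
  have hφ : v ≫ B.φ = A.φ := hom_ext_torsor hY A fun T g x => by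
    rw [← Category.assoc, hv, smp_comp B.act aY B.eqv, smp_comp A.act aY A.eqv]
    congr 1
    rw [Category.assoc, Category.assoc, Category.assoc, pullback.condition, pullback.condition,
      ← Category.assoc u.top]
    exact congrArg (fun r => x ≫ r ≫ j₀ j) u.wφ
  have hinj : ∀ {T : Over S} (a a' : T ⟶ A.P), a ≫ A.π = a' ≫ A.π → a ≫ v = a' ≫ v → a = a' := by
    intro T a a' e₁ e₂
    obtain ⟨c₀, rfl⟩ := exists_smp A.cart e₁
    rw [smp_comp A.act B.act heqv] at e₂
    rw [← smp_cancel B.cart ((smp_one B.act _).trans e₂), smp_one]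
  have hcart : IsPullback v A.π B.π u.base := by
    have hex : ∀ c : PullbackCone B.π u.base, ∃ a : c.pt ⟶ A.P, a ≫ v = c.fst ∧ a ≫ A.π = c.snd := by
      intro c
      let w₁ := pullback.fst (c.fst ≫ B.φ) j
      let wB : pullback (c.fst ≫ B.φ) j ⟶ pullback B.φ j :=
        pullback.lift (w₁ ≫ c.fst) (pullback.snd _ _) (by rw [Category.assoc]; exact pullback.condition)
      have hc₁ : fppfCover w₁.left := MorphismProperty.of_isPullback
        ((IsPullback.of_hasPullback (c.fst ≫ B.φ) j).map (Over.forget S)).flip (fppfCover_j hY)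
      have := epi_of_cover hc₁
      obtain ⟨c₀, y, hy, -⟩ := exists_decomp hY B wB
      rw [pullback.lift_fst] at hy
      have hyπ : y ≫ pullback.fst _ _ ≫ B.π = (w₁ ≫ c.snd) ≫ u.base := by
        rw [← Category.assoc, ← smp_π B.cart c₀, hy, Category.assoc, Category.assoc, c.condition]
      let x : pullback (c.fst ≫ B.φ) j ⟶ pullback A.φ (j₀ j) := u.cart.lift y (w₁ ≫ c.snd) hyπ
      have hx₁ : x ≫ u.top = y := u.cart.lift_fst _ _ _
      have hx₂ : x ≫ pullback.fst _ _ ≫ A.π = w₁ ≫ c.snd := u.cart.lift_snd _ _ _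
      let a₀ := smp A.act c₀ (x ≫ pullback.fst _ _)
      have ha₁ : a₀ ≫ v = w₁ ≫ c.fst := by
        rw [hv, show x ≫ uι hY u = y ≫ pullback.fst _ _ by rw [← hx₁]; exact (Category.assoc _ _ _).symm, hy]
      have ha₂ : a₀ ≫ A.π = w₁ ≫ c.snd := by rw [smp_π A.cart, Category.assoc, hx₂]
      obtain ⟨a, ha⟩ := exists_desc hc₁ a₀ fun T w w' e => hinj _ _
        (by simp only [Category.assoc, ha₂, reassoc_of% e]) (by simp only [Category.assoc, ha₁, reassoc_of% e])
      refine ⟨a, ?_, ?_⟩ <;> rw [← cancel_epi w₁, reassoc_of% ha]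
      · exact ha₁
      · exact ha₂
    choose l hl₁ hl₂ using hex
    exact ⟨⟨hw⟩, ⟨PullbackCone.IsLimit.mk hw l hl₁ hl₂ fun c m hm₁ hm₂ =>
      hinj _ _ (hm₂.trans (hl₂ c).symm) (hm₁.trans (hl₁ c).symm)⟩⟩
  refine ⟨⟨u.base, v, heqv, hcart, hφ⟩, AlgSt.QuotObj.hom_ext rfl (pullback.hom_ext ?_ ?_)⟩
  · refine (pullback.lift_fst _ _ _).trans ?_
    have := hv (1 : pullback A.φ (j₀ j) ⟶ G) (𝟙 _)
    rw [Category.id_comp, smp_one, Category.id_comp, smp_one] at this
    exact this
  · exact (pullback.lift_snd _ _ _).trans u.wφ.symm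

instance full_functorE : (functorE hY).toFunctor.Full where
  map_surjective u := exists_hom hY u

end Groth.Agent.Lib.QuotStk86
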