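import Groth.Agent.Lib.QuotStk86.Basic
import Groth.Agent.Lib.Fibred.EquivOver

/-!
# From torsors under `G` with a map to `G ×^H Z` to torsors under `H` with a map to `Z`
-/

set_option autoImplicit false
set_option backward.isDefEq.respectTransparency false
set_option backward.isDefEq.respectTransparency.types false

universe u

open CategoryTheory CategoryTheory.Limits MonoidalCategory CartesianMonoidalCategory MonObj GrpObj AlgebraicGeometry

noncomputable section

namespace Groth.Agent.Lib.QuotStk86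

open Groth.Agent.Lib.AlgSpace (fppfCover)
open AlgSt (QuotObj QuotSt)

variable {S : Scheme.{u}} {G H Z Y : Over S} [GrpObj G] [GrpObj H] {i : H ⟶ G} [IsMonHom i]
  {aZ : AlgGrp.Action H Z} {aY : AlgGrp.Action G Y} {j : G ⊗ Z ⟶ Y}

/-- `z ↦ [1, z]`. -/
abbrev j₀ (j : G ⊗ Z ⟶ Y) : Z ⟶ Y := lift (1 : Z ⟶ G) (𝟙 Z) ≫ j

theorem comp_j₀ (j : G ⊗ Z ⟶ Y) {T : Over S} (z : T ⟶ Z) : z ≫ j₀ j = lift (1 : T ⟶ G) z ≫ j := by
  rw [j₀, comp_lift_assoc, MonObj.comp_one, Category.comp_id]

section
variable (hY : ChGrp.IsBalProd Scheme.fppfPrecoverage i aZ aY j)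

include hY in
theorem lift_j {T : Over S} (g : T ⟶ G) (z : T ⟶ Z) : lift g z ≫ j = smp aY g (z ≫ j₀ j) := by
  have h := congrArg (lift g (lift (1 : T ⟶ G) z) ≫ ·) hY.1
  simp only [AlgGrp.Action.lift_prod_act_assoc, lift_whiskerLeft_assoc] at h
  rw [comp_j₀, smp]
  refine Eq.trans ?_ h
  congr 2
  · show g = lift g 1 ≫ (NonAbH1.trivialAction G).act
    show g = lift g 1 ≫ μ[G]
    rw [← Hom.mul_def, _root_.mul_one]
  · exact (lift_snd g z).symm

theorem smp_twist {T : Over S} (h : T ⟶ H) (g : T ⟶ G) (z : T ⟶ Z) :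
    smp (ChGrp.twist i aZ) h (lift g z) = lift (g * (h ≫ i)⁻¹) (smp aZ h z) :=
  ChGrp.lift_twist_act i aZ h g z

include hY in
theorem lift_twist_j {T : Over S} (h : T ⟶ H) (g : T ⟶ G) (z : T ⟶ Z) :
    lift (g * (h ≫ i)⁻¹) (smp aZ h z) ≫ j = lift g z ≫ j := by
  rw [← smp_twist, smp_π hY.2.1]

include hY in
theorem smp_comp_j₀ {T : Over S} (h : T ⟶ H) (z : T ⟶ Z) :
    smp aZ h z ≫ j₀ j = smp aY (h ≫ i) (z ≫ j₀ j) := by
  rw [← lift_j hY, comp_j₀, ← lift_twist_j hY h (h ≫ i) z, mul_inv_cancel]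

include hY in
theorem exists_twist {T : Over S} {g g' : T ⟶ G} {z z' : T ⟶ Z}
    (e : lift g z ≫ j = lift g' z' ≫ j) : ∃ h : T ⟶ H, g' = g * (h ≫ i)⁻¹ ∧ z' = smp aZ h z := by
  obtain ⟨h, hh⟩ := exists_smp hY.2.1 e
  rw [smp_twist] at hh
  exact ⟨h, by simpa using congrArg (· ≫ fst G Z) hh.symm, by simpa using congrArg (· ≫ snd G Z) hh.symm⟩

include hY in
theorem twist_cancel {T : Over S} {h h' : T ⟶ H} (z : T ⟶ Z) (e₁ : h ≫ i = h' ≫ i)
    (e₂ : smp aZ h z = smp aZ h' z) : h = h' := by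
  refine smp_cancel hY.2.1 (x := lift (1 : T ⟶ G) z) ?_
  rw [smp_twist, smp_twist, e₁, e₂]

include hY in
theorem fppfCover_j [Flat H.hom] [LocallyOfFinitePresentation H.hom] : fppfCover j.left :=
  fppfCover_torsor hY.2.1 hY.2.2

variable (A : QuotObj Scheme.fppfPrecoverage G aY)

/-- The action of `H` on the points of `A` lying over `Z`. -/
def actE : AlgGrp.Action H (pullback A.φ (j₀ j)) where
  act := pullback.lift (smp A.act (fst _ _ ≫ i) (snd _ _ ≫ pullback.fst _ _))
    (smp aZ (fst _ _) (snd _ _ ≫ pullback.snd _ _)) (by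
      rw [smp_comp A.act aY A.eqv, smp_comp_j₀ hY, Category.assoc, Category.assoc, pullback.condition])
  one_act := by
    have hu : ∀ {T : Over S} (u : T ⟶ 𝟙_ (Over S)), u ≫ η[H] = 1 := fun u => by
      rw [Hom.one_def, toUnit_unique (toUnit _) u]
    refine AlgGrp.Action.hom_ext_lift₂ fun T u x => pullback.hom_ext ?_ ?_
    · simp only [lift_whiskerRight_assoc, hu, Category.assoc, pullback.lift_fst, comp_smp,
        lift_fst_assoc, lift_snd_assoc, leftUnitor_hom, MonObj.one_comp, smp_one]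
    · simp only [lift_whiskerRight_assoc, hu, Category.assoc, pullback.lift_snd, comp_smp,
        lift_fst, lift_snd_assoc, leftUnitor_hom, smp_one]
  mul_act := by
    refine AlgGrp.Action.hom_ext_lift₃ fun T h h' x => pullback.hom_ext ?_ ?_
    · simp only [lift_whiskerRight_assoc, ← Hom.mul_def, Category.assoc, lift_lift_associator_hom_assoc,
        lift_whiskerLeft_assoc, pullback.lift_fst, comp_smp, lift_fst_assoc, lift_snd_assoc,
        MonObj.mul_comp, smp_smp]
    · simp only [lift_whiskerRight_assoc, ← Hom.mul_def, Category.assoc, lift_lift_associator_hom_assoc,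
        lift_whiskerLeft_assoc, pullback.lift_snd, comp_smp, lift_fst, lift_snd_assoc, smp_smp]

@[reassoc]
theorem smp_actE_fst {T : Over S} (h : T ⟶ H) (x : T ⟶ pullback A.φ (j₀ j)) :
    smp (actE hY A) h x ≫ pullback.fst _ _ = smp A.act (h ≫ i) (x ≫ pullback.fst _ _) := by
  simp [smp, actE, comp_lift_assoc]

@[reassoc]
theorem smp_actE_snd {T : Over S} (h : T ⟶ H) (x : T ⟶ pullback A.φ (j₀ j)) :
    smp (actE hY A) h x ≫ pullback.snd _ _ = smp aZ h (x ≫ pullback.snd _ _) := by
  simp [smp, actE, comp_lift_assoc]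

include hY in
theorem exists_point {T : Over S} (p : T ⟶ A.P) (g : T ⟶ G) (z : T ⟶ Z) (e : p ≫ A.φ = lift g z ≫ j) :
    ∃ x : T ⟶ pullback A.φ (j₀ j), x ≫ pullback.fst _ _ = smp A.act g⁻¹ p ∧ x ≫ pullback.snd _ _ = z :=
  ⟨pullback.lift (smp A.act g⁻¹ p) z (by rw [smp_comp A.act aY A.eqv, e, lift_j hY, smp_smp,
    inv_mul_cancel, smp_one]), pullback.lift_fst _ _ _, pullback.lift_snd _ _ _⟩

/-- The torsor under `H` cut out by `Z`. -/
def objE [Flat H.hom] [LocallyOfFinitePresentation H.hom] : QuotObj Scheme.fppfPrecoverage H aZ where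
  base := A.base
  P := pullback A.φ (j₀ j)
  act := actE hY A
  π := pullback.fst _ _ ≫ A.π
  φ := pullback.snd _ _
  eqv := AlgGrp.Action.hom_ext_lift₂ fun T h x => by
    rw [lift_whiskerLeft_assoc]
    exact (Category.assoc _ _ _).symm.trans (smp_actE_snd hY A h x)
  cart := by
    have w : (actE hY A).act ≫ pullback.fst _ _ ≫ A.π = snd H _ ≫ pullback.fst _ _ ≫ A.π :=
      AlgGrp.Action.hom_ext_lift₂ fun T h x => by
        rw [lift_snd_assoc, ← Category.assoc]
        change smp (actE hY A) h x ≫ _ = _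
        rw [← Category.assoc, smp_actE_fst, smp_π A.cart, Category.assoc]
    have key : ∀ {T : Over S} (y x : T ⟶ pullback A.φ (j₀ j)),
        y ≫ pullback.fst _ _ ≫ A.π = x ≫ pullback.fst _ _ ≫ A.π →
        ∃ h : T ⟶ H, smp (actE hY A) h x = y := by
      intro T y x e
      obtain ⟨g, hg⟩ := exists_smp A.cart (x := x ≫ pullback.fst _ _) (y := y ≫ pullback.fst _ _)
        (by simpa using e.symm)
      obtain ⟨h, h₁, h₂⟩ := exists_twist hY (g := g) (z := x ≫ pullback.snd A.φ (j₀ j)) (g' := 1)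
        (z' := y ≫ pullback.snd A.φ (j₀ j)) (by
          rw [← comp_j₀, Category.assoc, ← pullback.condition, lift_j hY, Category.assoc,
            ← pullback.condition, ← Category.assoc, ← Category.assoc, ← smp_comp A.act aY A.eqv, hg])
      have hgi : h ≫ i = g := by
        have := congrArg (· * (h ≫ i)) h₁
        simpa using this
      exact ⟨h, pullback.hom_ext (by rw [smp_actE_fst, hgi, hg]) (by rw [smp_actE_snd, h₂])⟩
    refine ⟨⟨w⟩, ⟨PullbackCone.IsLimit.mk w (fun c => lift (key c.fst c.snd c.condition).choose c.snd)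
      (fun c => (key c.fst c.snd c.condition).choose_spec) (fun c => lift_snd _ _)
      fun c m hm₁ hm₂ => ?_⟩⟩
    have hm : lift (m ≫ fst _ _) c.snd = m := by
      rw [← hm₂, ← comp_lift, lift_fst_snd, Category.comp_id]
    rw [← hm]
    have e := (congrArg (fun r => r ≫ (actE hY A).act) hm).trans (hm₁.trans (key c.fst c.snd c.condition).choose_spec.symm)
    congr 1
    refine twist_cancel hY (c.snd ≫ pullback.snd _ _) ?_ ?_
    · refine smp_cancel A.cart (x := c.snd ≫ pullback.fst _ _) ?_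
      rw [← smp_actE_fst hY, ← smp_actE_fst hY]
      exact congrArg (· ≫ _) e
    · rw [← smp_actE_snd hY, ← smp_actE_snd hY]
      exact congrArg (· ≫ _) e
  loc := by
    obtain ⟨W₀, q₀, s₀, hq, hs⟩ := exists_cover_section A.loc
    let W : Over S := Over.mk (q₀ ≫ A.base.hom)
    let s : W ⟶ A.P := Over.homMk s₀ (by
      show s₀ ≫ A.P.hom = q₀ ≫ A.base.hom
      rw [← Over.w A.π, ← Category.assoc]; exact congrArg (· ≫ A.base.hom) hs)
    let w₁ := pullback.fst (s ≫ A.φ) j
    let w₂ := pullback.snd (s ≫ A.φ) j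
    have hw : fppfCover w₁.left := MorphismProperty.of_isPullback
      ((IsPullback.of_hasPullback (s ≫ A.φ) j).map (Over.forget S)).flip (fppfCover_j hY)
    obtain ⟨x, hx₁, -⟩ := exists_point hY A (w₁ ≫ s) (w₂ ≫ fst G Z) (w₂ ≫ snd G Z) (by
      rw [← comp_lift, lift_fst_snd, Category.comp_id, Category.assoc]
      exact pullback.condition)
    refine isLocallyTrivialFor_of_cover (w₁.left ≫ q₀) (MorphismProperty.comp_mem _ _ _ hw hq) x.left ?_
    have h1 : x ≫ pullback.fst _ _ ≫ A.π = (w₁ ≫ s) ≫ A.π := by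
      rw [← Category.assoc, hx₁, smp_π A.cart]
    have h2 : (w₁.left ≫ s₀) ≫ A.π.left = w₁.left ≫ q₀ := by
      rw [Category.assoc]; exact congrArg (w₁.left ≫ ·) hs
    exact (congrArg (fun r => r.left) h1).trans h2

/-- Restriction of morphisms. -/
def mapE [Flat H.hom] [LocallyOfFinitePresentation H.hom] {A B : QuotObj Scheme.fppfPrecoverage G aY}
    (f : A ⟶ B) : objE hY A ⟶ objE hY B where
  base := f.base
  top := pullback.lift (pullback.fst _ _ ≫ f.top) (pullback.snd _ _) (by
    rw [Category.assoc, f.wφ, pullback.condition])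
  wφ := pullback.lift_snd _ _ _
  eqv := AlgGrp.Action.hom_ext_lift₂ fun T h (x : T ⟶ pullback A.φ (j₀ j)) => by
    rw [lift_whiskerLeft_assoc]
    show smp (actE hY A) h x ≫ _ = smp (actE hY B) h _
    refine pullback.hom_ext ?_ ?_
    · rw [Category.assoc, pullback.lift_fst, ← Category.assoc, smp_actE_fst, smp_comp A.act B.act f.eqv,
        smp_actE_fst, Category.assoc, Category.assoc, pullback.lift_fst]
    · rw [Category.assoc, pullback.lift_snd, smp_actE_snd, smp_actE_snd, Category.assoc, pullback.lift_snd]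
  cart := by
    refine ⟨⟨by simp [objE, f.cart.w]⟩, ⟨PullbackCone.IsLimit.mk _
      (fun c => pullback.lift (f.cart.lift (c.fst ≫ pullback.fst _ _) c.snd (by
          rw [Category.assoc]; exact c.condition))
        (c.fst ≫ pullback.snd _ _) (by
          rw [← f.wφ, f.cart.lift_fst_assoc, Category.assoc, Category.assoc, pullback.condition]))
      (fun c => pullback.hom_ext ?_ ?_) (fun c => ?_) fun c m hm₁ hm₂ => pullback.hom_ext ?_ ?_⟩⟩
    · rw [Category.assoc, pullback.lift_fst, pullback.lift_fst_assoc, f.cart.lift_fst]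
    · rw [Category.assoc, pullback.lift_snd, pullback.lift_snd]
    · show _ ≫ pullback.fst _ _ ≫ A.π = _
      rw [pullback.lift_fst_assoc, f.cart.lift_snd]
    · rw [pullback.lift_fst]
      refine f.cart.hom_ext ?_ ?_
      · rw [f.cart.lift_fst, ← hm₁, Category.assoc, Category.assoc, pullback.lift_fst]
      · rw [f.cart.lift_snd, ← hm₂, Category.assoc]; rfl
    · rw [pullback.lift_snd, ← hm₁, Category.assoc, pullback.lift_snd]

/-- The comparison functor. -/
def functorE [Flat H.hom] [LocallyOfFinitePresentation H.hom] :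
    QuotSt Scheme.fppfPrecoverage G aY ⥤ᵇ QuotSt Scheme.fppfPrecoverage H aZ where
  obj A := objE hY A
  map f := mapE hY f
  map_id A := AlgSt.QuotObj.hom_ext rfl (pullback.hom_ext (by simp [mapE, objE]) (by simp [mapE, objE]))
  map_comp f g := AlgSt.QuotObj.hom_ext rfl (pullback.hom_ext (by simp [mapE, objE]) (by simp [mapE, objE]))

end

end Groth.Agent.Lib.QuotStk86
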